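import Cfsg.Agent.OddHalf.D9.Plug.Base
import Cfsg.Agent.KFacts.MulSpor.HS

/-!
# D9, plug: `HS`
-/

set_option autoImplicit false

namespace Cfsg.Agent.OddHalf.D9.Plug.HS

open Subgroup Cfsg Cfsg.Agent.OddHalf.D9.Cut Cfsg.Agent.OddHalf.D9.MultOf Cfsg.Agent.OddHalf.D9.Plug.Base
open Cfsg.Agent.KFacts.MulDef Cfsg.Agent.KFacts.MulBound

universe u

/-- field of `TwoRows` -/
theorem field : Bd.{u} 2 (fun X _ => Spor.IsoHS X) :=
  Bd.of_oneCover fun _ _ ⟨e⟩ => Cfsg.Agent.KFacts.MulSpor.HS.oneCover_of_equiv e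

end Cfsg.Agent.OddHalf.D9.Plug.HS
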