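import Cfsg.Agent.OddHalf.D9.J2.Row

/-!
# D9, row `2.J₂`
-/

set_option autoImplicit false

namespace Cfsg.Agent.OddHalf.D9.Plug.RowJ2

open Subgroup Cfsg Cfsg.Agent.OddHalf.Iface Cfsg.Agent.OddHalf.D9.Cut

universe u

/-- **D9, row `2.J₂`.** -/
theorem row : Cut.Row.{u} (fun K _ => Cut.Two (fun X _ => Spor.IsoJ2 X) K) :=
  Cfsg.Agent.OddHalf.D9.J2.Row.row_of
    (fun _ _ C _ S hc hz => Cfsg.Agent.OddHalf.D9.Basic.of_std C S hc hz)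

end Cfsg.Agent.OddHalf.D9.Plug.RowJ2
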