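import Cfsg.Agent.OddHalf.D9.Plug.Base
import Cfsg.Agent.OddHalf.D9.Ru.RowFin

/-!
# D9, plug: `Ru`
-/

set_option autoImplicit false

namespace Cfsg.Agent.OddHalf.D9.Plug.Ru

open Subgroup Cfsg Cfsg.Agent.OddHalf.D9.Cut Cfsg.Agent.OddHalf.D9.MultOf Cfsg.Agent.OddHalf.D9.Plug.Base
open Cfsg.Agent.KFacts.MulDef Cfsg.Agent.KFacts.MulBound

universe u

/-- field of `TwoRows` -/
theorem field : Bd.{u} 2 (fun X _ => Spor.IsoRu X) :=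
  Bd.of_oneCover fun _ _ ⟨e⟩ => Cfsg.Agent.KFacts.MulBaer.OneCover.congr
    (Cfsg.Agent.KFacts.MulRu.Main.oneCover_of_ltr Cfsg.Agent.OddHalf.D9.Ru.RowFin.bound
      Cfsg.Agent.OddHalf.D9.Ru.RowFin.idx Cfsg.Agent.OddHalf.D9.Ru.KFin.ltr)
    (e.trans Cfsg.Agent.RuLat.Main.equiv).symm

end Cfsg.Agent.OddHalf.D9.Plug.Ru
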