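import Cfsg.Agent.OddHalf.D9.Plug.Base
import Cfsg.Agent.KFacts.MulY.Fi23

/-!
# D9, plug: `Fi23`
-/

set_option autoImplicit false

namespace Cfsg.Agent.OddHalf.D9.Plug.Fi23

open Subgroup Cfsg Cfsg.Agent.OddHalf.D9.Cut Cfsg.Agent.OddHalf.D9.MultOf Cfsg.Agent.OddHalf.D9.Plug.Base
open Cfsg.Agent.KFacts.MulDef Cfsg.Agent.KFacts.MulBound

universe u

/-- field of `SporND` -/
theorem field : ∀ (X : Type u) [Group X], Spor.IsoFi23 X → NoDouble X :=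
  fun _ _ ⟨e⟩ => Cfsg.Agent.KFacts.MulY.Fi23.noDouble.congr e.symm

end Cfsg.Agent.OddHalf.D9.Plug.Fi23
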