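import Cfsg.Agent.OddHalf.D9.MultOf

/-!
# D9, plug: adaptors for the bounds
-/

set_option autoImplicit false

namespace Cfsg.Agent.OddHalf.D9.Plug.Base

open Subgroup Cfsg Cfsg.Agent.OddHalf.D9.Cut Cfsg.Agent.OddHalf.D9.MultOf

universe u v

theorem exists_card {K : Type u} [Group K] (h : QsCyc K) : ∃ n, Nat.card ↥(center K) = 2 ^ n := by
  have := h.1
  have : Fact (Nat.Prime 2) := ⟨Nat.prime_two⟩
  exact IsPGroup.iff_card.1 h.2.2.1

/-- the canonical map to a copy `X` of `K / Z(K)` -/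
def toX {K : Type u} [Group K] {X : Type v} [Group X] (e : K ⧸ center K ≃* X) : K →* X :=
  e.toMonoidHom.comp (QuotientGroup.mk' (center K))

theorem toX_surj {K : Type u} [Group K] {X : Type v} [Group X] (e : K ⧸ center K ≃* X) :
    Function.Surjective (toX e) := e.surjective.comp (QuotientGroup.mk'_surjective _)

theorem toX_ker {K : Type u} [Group K] {X : Type v} [Group X] (e : K ⧸ center K ≃* X) :
    (toX e).ker = center K := Cfsg.Agent.KFacts.MulY.Tower.ker_equiv e

theorem toX_eq_one {K : Type u} [Group K] {X : Type v} [Group X] (e : K ⧸ center K ≃* X) (x : K) :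
    toX e x = 1 ↔ x ∈ center K := by rw [← MonoidHom.mem_ker, toX_ker]

theorem dvd_two {K : Type u} [Group K] (h : QsCyc K) (h4 : ¬ 4 ∣ Nat.card ↥(center K)) :
    Nat.card ↥(center K) ∣ 2 := by
  obtain ⟨n, hn⟩ := exists_card h
  rw [hn] at h4 ⊢
  rcases n with _ | _ | n
  · exact one_dvd 2
  · exact dvd_rfl
  · exact absurd ⟨2 ^ n, by ring⟩ h4

theorem dvd_two_of_le {K : Type u} [Group K] (h : QsCyc K) (h4 : Nat.card ↥(center K) ≤ 3) :
    Nat.card ↥(center K) ∣ 2 := by
  refine dvd_two h fun h5 => ?_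
  have := h.1
  have h6 := Nat.le_of_dvd Nat.card_pos h5
  omega

theorem dvd_four {K : Type u} [Group K] (h : QsCyc K) (h8 : ¬ 8 ∣ Nat.card ↥(center K)) :
    Nat.card ↥(center K) ∣ 4 := by
  obtain ⟨n, hn⟩ := exists_card h
  rw [hn] at h8 ⊢
  rcases n with _ | _ | _ | n
  · exact one_dvd 4
  · exact ⟨2, by norm_num⟩
  · exact ⟨1, by norm_num⟩
  · exact absurd ⟨2 ^ n, by ring⟩ h8

theorem dvd_four_of_le {K : Type u} [Group K] (h : QsCyc K) (h8 : Nat.card ↥(center K) ≤ 7) :
    Nat.card ↥(center K) ∣ 4 := by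
  refine dvd_four h fun h5 => ?_
  have := h.1
  have h6 := Nat.le_of_dvd Nat.card_pos h5
  omega

/-- A bound for the kernels of central extensions gives `Bd 2`. -/
theorem bd_two_of_not_four {P : (X : Type u) → [Group X] → Prop}
    (h : ∀ (K : Type u) [Group K] [Finite K] (X : Type u) [Group X], P X → commutator K = ⊤ →
      ∀ f : K →* X, Function.Surjective f → f.ker ≤ center K → ¬ 4 ∣ Nat.card f.ker) : Bd.{u} 2 P := by
  intro K _ hK hP
  have := hK.1
  have h1 := h K _ hP hK.2.1.1.commutator_eq_top (toX (MulEquiv.refl _)) (toX_surj _) (toX_ker _).le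
  rw [toX_ker] at h1
  exact dvd_two hK h1

/-- `z ^ 4 = 1` on a cyclic centre gives `|Z| ∣ 4`. -/
theorem dvd_of_pow {K : Type u} [Group K] (h : QsCyc K) {n : ℕ} (hn : ∀ z ∈ center K, z ^ n = 1) :
    Nat.card ↥(center K) ∣ n := by
  have := h.1
  have hc := h.2.2.2
  obtain ⟨g, hg⟩ := IsCyclic.exists_generator (α := ↥(center K))
  have h1 : orderOf g = Nat.card ↥(center K) := orderOf_eq_card_of_forall_mem_zpowers hg
  rw [← h1]
  apply orderOf_dvd_of_pow_eq_one
  apply Subtype.ext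
  rw [coe_pow]
  exact hn g g.2

end Cfsg.Agent.OddHalf.D9.Plug.Base
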