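import Cfsg.Agent.OddHalf.D9.Plug.Base
import Cfsg.Agent.KFacts.Mult.LacedE

/-!
# D9, plug: `E₆(q)`, `E₇(q)`, `E₈(q)`
-/

set_option autoImplicit false

namespace Cfsg.Agent.OddHalf.D9.Plug.E678

open Subgroup Cfsg Cfsg.Agent.OddHalf.D9.Cut Cfsg.Agent.OddHalf.D9.MultOf Cfsg.Agent.OddHalf.D9.Plug.Base
open Cfsg.Agent.KFacts.MulDef Cfsg.Agent.KFacts.MulBound

universe u

theorem two_eq_zero {F : Type} [Field F] [Fintype F] {a : ℕ} (ha : 1 ≤ a) (hF : Fintype.card F = 2 ^ a) :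
    (2 : F) = 0 := by
  have h1 : (Fintype.card F : F) = 0 := FiniteField.cast_card_eq_zero F
  rw [hF] at h1
  push_cast at h1
  exact pow_eq_zero_iff (by omega) |>.1 h1

/-- field of `LieND` -/
theorem e6 : ∀ (F : Type) [Field F] [Fintype F] (a : ℕ), 1 ≤ a → Fintype.card F = 2 ^ a →
    NoDouble ↥(Lie.chevE6.group F) :=
  fun _ _ _ _ ha hF => Cfsg.Agent.KFacts.Mult.LacedE.noDouble_E6 _ (two_eq_zero ha hF)

/-- field of `LieND` -/
theorem e7 : ∀ (F : Type) [Field F] [Fintype F] (a : ℕ), 1 ≤ a → Fintype.card F = 2 ^ a →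
    NoDouble ↥(Lie.chevE7.group F) :=
  fun _ _ _ _ ha hF => Cfsg.Agent.KFacts.Mult.LacedE.noDouble_E7 _ (two_eq_zero ha hF)

/-- field of `LieND` -/
theorem e8 : ∀ (F : Type) [Field F] [Fintype F] (a : ℕ), 1 ≤ a → Fintype.card F = 2 ^ a →
    NoDouble ↥(Lie.chevE8.group F) :=
  fun _ _ _ _ ha hF => Cfsg.Agent.KFacts.Mult.LacedE.noDouble_E8 _ (two_eq_zero ha hF)

end Cfsg.Agent.OddHalf.D9.Plug.E678
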