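import Cfsg.Agent.OddHalf.D9.Plug.Base
import Cfsg.Agent.OddHalf.D9.L34Mult.Mult

/-!
# D9, plug: `L₃(4)`
-/

set_option autoImplicit false

namespace Cfsg.Agent.OddHalf.D9.Plug.L34

open Subgroup Cfsg Cfsg.Agent.OddHalf.D9.Cut Cfsg.Agent.OddHalf.D9.MultOf Cfsg.Agent.OddHalf.D9.Plug.Base
open Cfsg.Agent.KFacts.MulDef Cfsg.Agent.KFacts.MulBound

universe u

/-- field of `FourRows` -/
theorem field : Bd.{u} 4 (fun X _ => XL34 X) := by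
  rintro K _ hK ⟨F, _, _, hF, ⟨e⟩⟩
  have := hK.1
  exact Cfsg.Agent.OddHalf.D9.L34Mult.card_cyclic hK.2.1.1.commutator_eq_top hK.2.2.1 hF e hK.2.2.2

end Cfsg.Agent.OddHalf.D9.Plug.L34
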