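import Cfsg.Agent.OddHalf.D9.Plug.Base
import Cfsg.Agent.KFacts.MulSpor.TwoAnRow

/-!
# D9, plug: `M24`
-/

set_option autoImplicit false

namespace Cfsg.Agent.OddHalf.D9.Plug.M24

open Subgroup Cfsg Cfsg.Agent.OddHalf.D9.Cut Cfsg.Agent.OddHalf.D9.MultOf Cfsg.Agent.OddHalf.D9.Plug.Base
open Cfsg.Agent.KFacts.MulDef Cfsg.Agent.KFacts.MulBound

universe u

/-- field of `SporND` -/
theorem field : ∀ (X : Type u) [Group X], Spor.IsoM24 X → NoDouble X :=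
  fun _ _ ⟨e⟩ => Cfsg.Agent.KFacts.MulSpor.TwoAnRow.noDouble_m24.congr e.symm

end Cfsg.Agent.OddHalf.D9.Plug.M24
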