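import Cfsg.Agent.OddHalf.D9.Plug.Base
import Cfsg.Agent.KFacts.OddLift.SpSix

/-!
# D9, plug: `Sp₆(2)`
-/

set_option autoImplicit false

namespace Cfsg.Agent.OddHalf.D9.Plug.Sp62

open Subgroup Cfsg Cfsg.Agent.OddHalf.D9.Cut Cfsg.Agent.OddHalf.D9.MultOf Cfsg.Agent.OddHalf.D9.Plug.Base
open Cfsg.Agent.KFacts.MulDef Cfsg.Agent.KFacts.MulBound

universe u

/-- field of `TwoRows` -/
theorem field : Bd.{u} 2 (fun X _ => XSp62 X) := by
  rintro K _ hK ⟨F, _, _, hF, ⟨e⟩⟩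
  have := hK.1
  have h1 := Cfsg.Agent.KFacts.OddLift.SpSix.card_le hK.2.1.1.commutator_eq_top (center K) le_rfl hK.2.2.1 hF e
  exact dvd_two_of_le hK (by omega)

end Cfsg.Agent.OddHalf.D9.Plug.Sp62
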